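import Cfsg.Agent.H408.Pron.Defs
import Cfsg.Agent.H779.RowHex

/-!
# S2527: the rows `G₂(q)`, `³D₄(q)`, `q` odd (task 2186, helper621)
-/

set_option autoImplicit false

namespace Cfsg.Agent.H621.Pron

open Cfsg Cfsg.Lie Cfsg.Agent.ClassificationK.GTwoModel Cfsg.Agent.H408.Pron

/-- groups whose Sylow 2-subgroups are of type `G₂(q)` -/
theorem po_of_equiv {K : Type*} [Group K] [Finite K] (hC : SC K) (P : Sylow 2 K) {k : ℕ} (hk : 1 ≤ k)
    (e : T (2 * 2 ^ k) ≃* (P : Subgroup K)) : PO K := by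
  refine PO.of_aut hC P fun φ n hn h => ?_
  have h1 : (MulAut.congr e.symm φ) ^ n = 1 := by
    rw [← map_pow, h, map_one]
  have h2 := Cfsg.Agent.H779.RowHex.aut_eq_one hk _ hn h1
  exact (MulAut.congr e.symm).injective (h2.trans (map_one _).symm)

theorem po_G2 {F : Type*} [Field F] [Fintype F] (hC : SC ↥(Cfsg.Lie.chevG2.group F)) (hF : Odd (Fintype.card F)) :
    PO ↥(Cfsg.Lie.chevG2.group F) := by
  have hcard : Nat.card ↥(chevG2.group F) =
      Fintype.card F ^ 6 * (Fintype.card F ^ 2 - 1) * (Fintype.card F ^ 6 - 1) :=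
    Cfsg.Agent.S1059.result (F := F) rfl
  have : Fact (Nat.Prime 2) := ⟨Nat.prime_two⟩
  obtain ⟨Q⟩ : Nonempty (Sylow 2 ↥(chevG2.group F)) := inferInstance
  obtain ⟨k, hk, ⟨f⟩⟩ := Cfsg.Agent.ClassificationK.GTwoSylow.exists_equiv hF hcard Q
  exact po_of_equiv hC Q hk f

theorem po_3D4 {E : Type*} [Field E] [Fintype E] {q : ℕ} (hC : SC ↥(Cfsg.Lie.twistedD4 E q)) (hq : Odd q)
    (hE : Fintype.card E = q ^ 3) : PO ↥(Cfsg.Lie.twistedD4 E q) := by
  have : Fact (Nat.Prime 2) := ⟨Nat.prime_two⟩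
  obtain ⟨Q⟩ : Nonempty (Sylow 2 ↥(twistedD4 E q)) := inferInstance
  obtain ⟨k, m, hk, -, -, ⟨f⟩⟩ := Cfsg.Agent.H285.D4Sylow.exists_equiv hq hE Q
  exact po_of_equiv hC Q hk f

end Cfsg.Agent.H621.Pron
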